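/-
The monomial maps of `CoverData`: kernel checks that they are involutive up to a label and satisfy the relators of
`G₂(4)` in six generators up to a constant label.
-/
import Cfsg.Agent.Lib.G2FourMult.CoverData
import Cfsg.Agent.Lib.Presented.Data.SuzG2Data

set_option autoImplicit false
set_option maxRecDepth 20000
set_option Elab.async false

namespace Cfsg.Agent.G2FourMult

open Cfsg.Agent.Chev (Tab allLt allL)

/-- The tables, selected by the generator. -/
noncomputable def tabOf (g : ℕ) : Tab ℕ :=
  cond (Nat.beq g 0) tab0 (cond (Nat.beq g 1) tab1 (cond (Nat.beq g 2) tab2 (cond (Nat.beq g 3) tab3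
    (cond (Nat.beq g 4) tab4 tab5))))

/-- The packed entry at a point. -/
noncomputable def entry (g x : ℕ) : ℕ := Nat.shiftRight ((tabOf g).get (x / 63)) (13 * (x % 63)) % 8192

/-- The image of a point. -/
noncomputable def pxN (g x : ℕ) : ℕ := entry g x / 4

/-- The label of a point. -/
noncomputable def lbN (g x : ℕ) : ℕ := entry g x % 4

/-- A value computed before it is used. -/
def forceN {β : Sort*} (a : ℕ) (f : ℕ → β) : β :=
  match a with
  | 0 => f 0
  | k + 1 => f (k + 1)

theorem forceN_eq {β : Sort*} (a : ℕ) (f : ℕ → β) : forceN a f = f a := by cases a <;> rfl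

/-- A word brings the point `x` with label `a` back to `x₀` with label `v`. -/
noncomputable def chk (x₀ v : ℕ) (w : List ℕ) : ℕ → ℕ → Bool :=
  List.rec (motive := fun _ => ℕ → ℕ → Bool) (fun x a => Nat.beq x x₀ && Nat.beq (a % 4) v)
    (fun g _ ih x a => forceN (entry g x) fun e => forceN (Nat.div e 4) fun x' =>
      forceN (Nat.add a (Nat.mod e 4)) fun a' => ih x' a') w

theorem chk_cons (x₀ v g : ℕ) (w : List ℕ) (x a : ℕ) :
    chk x₀ v (g :: w) x a = chk x₀ v w (pxN g x) (a + lbN g x) := by
  show forceN (entry g x) (fun e => forceN (Nat.div e 4) fun x' =>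
    forceN (Nat.add a (Nat.mod e 4)) fun a' => chk x₀ v w x' a') = _
  rw [forceN_eq, forceN_eq, forceN_eq]
  rfl

/-- A relator returns every point with a constant label. -/
noncomputable def relOK (w : List ℕ) (v : ℕ) : Bool := allLt 2016 fun x => chk x v w x 0

/-- A map sends points to points and is involutive on them. -/
noncomputable def invOK (g : ℕ) : Bool :=
  allLt 2016 fun x => Nat.blt (pxN g x) 2016 && Nat.beq (pxN g (pxN g x)) x

theorem invOK_all : allLt 6 invOK = true := by decide +kernel

/-- The relators `i ≤ j < k` hold. -/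
noncomputable def chunkOK (i k : ℕ) : Bool :=
  allL (fun p : List ℕ × ℕ => relOK p.1 p.2) (((Presented.SuzG2Data.rels.zip relVals).take k).drop i)

theorem chunk0 : chunkOK 0 10 = true := by decide +kernel

theorem chunk10 : chunkOK 10 20 = true := by decide +kernel

theorem chunk20 : chunkOK 20 30 = true := by decide +kernel

theorem chunk30 : chunkOK 30 36 = true := by decide +kernel

theorem chunk36 : chunkOK 36 37 = true := by decide +kernel

theorem chunk37 : chunkOK 37 38 = true := by decide +kernel

theorem chunk38 : chunkOK 38 39 = true := by decide +kernel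

theorem rels_all :
    allL (fun p : List ℕ × ℕ => relOK p.1 p.2) (Presented.SuzG2Data.rels.zip relVals) = true := by
  set L := Presented.SuzG2Data.rels.zip relVals with hL
  have hsplit : L = (L.take 10).drop 0 ++ (L.take 20).drop 10 ++ (L.take 30).drop 20 ++ (L.take 36).drop 30 ++ (L.take 37).drop 36 ++ (L.take 38).drop 37 ++ (L.take 39).drop 38 := by
    rw [hL]; rfl
  rw [Chev.allL_iff, hsplit]
  simp only [List.mem_append]
  rintro p ((((((h | h) | h) | h) | h) | h) | h)
  · exact Chev.allL_iff.1 chunk0 p h
  · exact Chev.allL_iff.1 chunk10 p h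
  · exact Chev.allL_iff.1 chunk20 p h
  · exact Chev.allL_iff.1 chunk30 p h
  · exact Chev.allL_iff.1 chunk36 p h
  · exact Chev.allL_iff.1 chunk37 p h
  · exact Chev.allL_iff.1 chunk38 p h

theorem relVals_even : allL (fun v => Nat.beq (v % 2) 0) relVals = true ∧ relVals.length = Presented.SuzG2Data.rels.length := by
  decide +kernel

/-- The first generator moves a point. -/
theorem moves : (Nat.beq (pxN 0 0) 0 && Nat.beq (pxN 0 1) 1) = false := by decide +kernel

end Cfsg.Agent.G2FourMult
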