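/-
The double cover of `G₂(4)`: six monomial maps of `2016 × 4` points satisfy the relators of `G₂(4)` in six generators
up to the central map adding `2` to the label.
-/
import Cfsg.Agent.Lib.G2FourMult.CoverChecks
import Cfsg.Agent.Lib.Presented.SuzG2
import Cfsg.Agent.S1055
import Cfsg.Prelude.Def_KGroupFacts

set_option autoImplicit false
set_option maxRecDepth 20000

namespace Cfsg.Agent.G2FourMult

open Cfsg.Lie Cfsg.Agent.Presented
open scoped commutatorElement

/-- The points with labels. -/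
abbrev Pt := Fin 2016 × ZMod 4

theorem invOK_of {g : ℕ} (hg : g < 6) {x : ℕ} (hx : x < 2016) :
    pxN g x < 2016 ∧ pxN g (pxN g x) = x := by
  have h := Chev.allLt_iff.1 (Chev.allLt_iff.1 invOK_all g hg) x hx
  simp only [Bool.and_eq_true, Nat.blt_eq, Nat.beq_eq] at h
  exact h

/-- The image of a point. -/
noncomputable def px (g : ℕ) (hg : g < 6) (x : Fin 2016) : Fin 2016 := ⟨pxN g x, (invOK_of hg x.2).1⟩

theorem px_px (g : ℕ) (hg : g < 6) (x : Fin 2016) : px g hg (px g hg x) = x :=
  Fin.ext (invOK_of hg x.2).2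

/-- A generator of the cover. -/
noncomputable def genPerm (g : ℕ) (hg : g < 6) : Equiv.Perm Pt where
  toFun p := (px g hg p.1, p.2 + (lbN g p.1 : ZMod 4))
  invFun p := (px g hg p.1, p.2 - (lbN g (px g hg p.1) : ZMod 4))
  left_inv p := by
    refine Prod.ext (px_px g hg p.1) ?_
    show p.2 + (lbN g p.1 : ZMod 4) - (lbN g (px g hg (px g hg p.1)) : ZMod 4) = p.2
    rw [px_px, add_sub_cancel_right]
  right_inv p := by
    refine Prod.ext (px_px g hg p.1) ?_
    show p.2 - (lbN g (px g hg p.1) : ZMod 4) + (lbN g (px g hg p.1) : ZMod 4) = p.2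
    rw [sub_add_cancel]

/-- The generators, totalised. -/
noncomputable def sC (g : ℕ) : Equiv.Perm Pt := if hg : g < 6 then genPerm g hg else 1

theorem sC_apply {g : ℕ} (hg : g < 6) (p : Pt) :
    sC g p = (px g hg p.1, p.2 + (lbN g p.1 : ZMod 4)) := by
  rw [sC, dif_pos hg]; rfl

/-- Adding a constant to the label. -/
noncomputable def trans (v : ZMod 4) : Equiv.Perm Pt := (Equiv.refl _).prodCongr (Equiv.addRight v)

theorem trans_apply (v : ZMod 4) (p : Pt) : trans v p = (p.1, p.2 + v) := rfl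

theorem trans_zero : trans 0 = 1 := Equiv.ext fun p => by simp [trans_apply]

theorem trans_comm (v : ZMod 4) (g : ℕ) : trans v * sC g = sC g * trans v := by
  by_cases hg : g < 6
  · refine Equiv.ext fun p => ?_
    rw [Equiv.Perm.mul_apply, Equiv.Perm.mul_apply, sC_apply hg, sC_apply hg, trans_apply, trans_apply]
    exact Prod.ext rfl (add_right_comm _ _ _)
  · rw [sC, dif_neg hg, mul_one, one_mul]

theorem walk {x₀ v : ℕ} : ∀ (w : List ℕ), (∀ g ∈ w, g < 6) → ∀ (x : Fin 2016) (a : ℕ), chk x₀ v w x a = true →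
    ∀ c : ZMod 4, ((wval sC w (x, c + (a : ZMod 4))).1 : ℕ) = x₀ ∧
      (wval sC w (x, c + (a : ZMod 4))).2 = c + (v : ZMod 4) := by
  intro w
  induction w with
  | nil =>
    intro _ x a h c
    simp only [chk, Bool.and_eq_true, Nat.beq_eq] at h
    refine ⟨h.1, ?_⟩
    show c + (a : ZMod 4) = c + (v : ZMod 4)
    rw [← h.2, ZMod.natCast_mod]
  | cons g w ih =>
    intro hw x a h c
    have hg := hw g List.mem_cons_self
    rw [chk_cons] at h
    have h' : chk x₀ v w (px g hg x : ℕ) (a + lbN g x) = true := h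
    show ((wval sC w * sC g) (x, c + (a : ZMod 4))).1.val = x₀ ∧ _
    rw [show wval sC (g :: w) = wval sC w * sC g from rfl, Equiv.Perm.mul_apply, sC_apply hg]
    have := ih (fun g' hg' => hw g' (List.mem_cons_of_mem _ hg')) (px g hg x) (a + lbN g x) h' c
    rw [Nat.cast_add, ← add_assoc] at this
    exact this

theorem rel_trans {w : List ℕ} (hw : ∀ g ∈ w, g < 6) {v : ℕ} (h : relOK w v = true) :
    wval sC w = trans (v : ZMod 4) := by
  refine Equiv.ext fun ⟨x, c⟩ => ?_
  obtain ⟨h1, h2⟩ := walk w hw x 0 (Chev.allLt_iff.1 h x x.2) c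
  rw [Nat.cast_zero, add_zero] at h1 h2
  exact Prod.ext (Fin.ext h1) h2

/-- The central involution. -/
noncomputable def zC : Equiv.Perm Pt := trans 2

theorem zC_pow (k : ℕ) : zC ^ k = trans ((2 * k : ℕ) : ZMod 4) := by
  induction k with
  | zero => rw [pow_zero, Nat.mul_zero, Nat.cast_zero, trans_zero]
  | succ k ih =>
    rw [pow_succ, ih]
    refine Equiv.ext fun p => ?_
    simp only [Equiv.Perm.mul_apply, zC, trans_apply]
    push_cast
    exact Prod.ext rfl (by ring)

theorem exists_rel (w : List ℕ) (hw : w ∈ SuzG2Data.rels) :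
    ∃ v : ℕ, 2 ∣ v ∧ wval sC w = trans (v : ZMod 4) := by
  obtain ⟨i, hi, rfl⟩ := List.mem_iff_getElem.1 hw
  have hi' : i < relVals.length := relVals_even.2 ▸ hi
  have hz : (SuzG2Data.rels[i], relVals[i]) ∈ SuzG2Data.rels.zip relVals :=
    List.mem_iff_getElem.2 ⟨i, by rw [List.length_zip]; omega, List.getElem_zip⟩
  refine ⟨relVals[i], ?_, rel_trans (fun g hg => SuzG2.rels_lt _ (List.getElem_mem hi) g hg)
    (Chev.allL_iff.1 rels_all _ hz)⟩
  have := Chev.allL_iff.1 relVals_even.1 relVals[i] (List.getElem_mem hi')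
  rw [Nat.beq_eq] at this
  omega

/-- The cover. -/
noncomputable def cov : Subgroup (Equiv.Perm Pt) := Subgroup.closure (sC '' {g | g < 6})

theorem sC_mem (g : ℕ) : sC g ∈ cov := by
  by_cases hg : g < 6
  · exact Subgroup.subset_closure ⟨g, hg, rfl⟩
  · rw [sC, dif_neg hg]; exact cov.one_mem

/-- The generators inside the cover. -/
noncomputable def kC (g : ℕ) : cov := ⟨sC g, sC_mem g⟩

theorem coe_wval (w : List ℕ) : ((wval kC w : cov) : Equiv.Perm Pt) = wval sC w :=
  wval_map (s := kC) cov.subtype w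

theorem closure_kC : Subgroup.closure (kC '' {g | g < 6}) = ⊤ := by
  refine Subgroup.map_injective cov.subtype_injective ?_
  rw [MonoidHom.map_closure, Set.image_image, ← MonoidHom.range_eq_map, Subgroup.range_subtype]
  rfl

theorem sq_three : sC 3 * sC 3 = zC := by
  have h := rel_trans (w := [3, 3]) (v := 2) (by simp)
    (Chev.allL_iff.1 rels_all ([3, 3], 2) (by decide +kernel))
  simpa [wval, zC] using h

theorem zC_mem : zC ∈ cov := sq_three ▸ cov.mul_mem (sC_mem 3) (sC_mem 3)

/-- The centre of the cover. -/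
noncomputable def zSub : Subgroup cov := Subgroup.zpowers ⟨zC, zC_mem⟩

theorem zSub_le_center : zSub ≤ Subgroup.center cov := by
  rw [zSub, Subgroup.zpowers_le, Subgroup.mem_center_iff]
  intro g
  have hle : (⊤ : Subgroup cov) ≤ Subgroup.centralizer {(⟨zC, zC_mem⟩ : cov)} := by
    rw [← closure_kC, Subgroup.closure_le]
    rintro _ ⟨k, -, rfl⟩
    rw [SetLike.mem_coe, Subgroup.mem_centralizer_singleton_iff]
    exact Subtype.ext (trans_comm 2 k).symm
  exact Subgroup.mem_centralizer_singleton_iff.1 (hle (Subgroup.mem_top g))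

instance zSub_normal : zSub.Normal :=
  ⟨fun n hn g => by rwa [Subgroup.mem_center_iff.1 (zSub_le_center hn) g, mul_inv_cancel_right]⟩

theorem card_zSub : Nat.card zSub = 2 := by
  rw [zSub, Nat.card_zpowers, ← Subgroup.orderOf_coe]
  refine orderOf_eq_prime ?_ ?_
  · refine Equiv.ext fun p => ?_
    rw [pow_two, Equiv.Perm.mul_apply]
    simp only [zC, trans_apply, Equiv.Perm.one_apply, add_assoc]
    rw [show (2 : ZMod 4) + 2 = 0 by decide, add_zero]
  · intro h
    have := congrArg (fun f : Equiv.Perm Pt => (f (0, 0)).2) h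
    simp [zC, trans_apply] at this
    exact absurd this (by decide)

/-- The images of the generators modulo the centre. -/
noncomputable def sBar (g : ℕ) : cov ⧸ zSub := QuotientGroup.mk' zSub (kC g)

theorem sBar_rels (w : List ℕ) (hw : w ∈ SuzG2Data.rels) : wval sBar w = 1 := by
  obtain ⟨v, ⟨k, rfl⟩, h⟩ := exists_rel w hw
  rw [show sBar = fun g => QuotientGroup.mk' zSub (kC g) from rfl, ← wval_map (QuotientGroup.mk' zSub),
    QuotientGroup.mk'_apply, QuotientGroup.eq_one_iff]
  refine ⟨(k : ℤ), Subtype.ext ?_⟩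
  show (((⟨zC, zC_mem⟩ : cov) ^ (k : ℤ) : cov) : Equiv.Perm Pt) = _
  rw [coe_wval, h, zpow_natCast, Subgroup.coe_pow, zC_pow]

/-- The pairs. -/
noncomputable def pairs (g : ℕ) : G2Four.Q × (cov ⧸ zSub) :=
  if g < 6 then (SuzG2.qImg g, sBar g) else 1

theorem pairs_rels (w : List ℕ) (hw : w ∈ SuzG2Data.rels) : wval pairs w = 1 := by
  refine Prod.ext ?_ ?_
  · refine ((wval_map (MonoidHom.fst G2Four.Q (cov ⧸ zSub)) w).trans
      (SuzG2.wval_congr (g := SuzG2.qImg) ?_)).trans (SuzG2.qImg_rels hw)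
    intro i hi
    simp [pairs, SuzG2.rels_lt w hw i hi]
  · refine ((wval_map (MonoidHom.snd G2Four.Q (cov ⧸ zSub)) w).trans
      (SuzG2.wval_congr (g := sBar) ?_)).trans (sBar_rels w hw)
    intro i hi
    simp [pairs, SuzG2.rels_lt w hw i hi]

theorem pairs_sq (g : ℕ) : pairs g * pairs g = 1 := by
  by_cases hg : g < 6
  · have key : ∀ i < 6, [i, i] ∈ SuzG2Data.rels := by decide +kernel
    simpa [wval] using pairs_rels _ (key g hg)
  · simp [pairs, hg]

theorem exists_equiv : Nonempty (cov ⧸ zSub ≃* chevG2.group G2Four.K4) := by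
  set S := Subgroup.closure (pairs '' {g | g < 6})
  obtain ⟨hfin, hle⟩ := SuzG2.bound_closure pairs_sq pairs_rels
  have hpr : ∀ g ∈ ({g | g < 6} : Set ℕ), pairs g = (SuzG2.qImg g, sBar g) := fun g hg => if_pos hg
  have h1 : S.map (MonoidHom.fst G2Four.Q (cov ⧸ zSub)) = ⊤ := by
    rw [← SuzG2.closure_qImg, MonoidHom.map_closure, Set.image_image]
    congr 1
    exact Set.image_congr fun g hg => by rw [hpr g hg]; rfl
  have h2 : S.map (MonoidHom.snd G2Four.Q (cov ⧸ zSub)) = ⊤ := by
    rw [MonoidHom.map_closure, Set.image_image,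
      Set.image_congr (g := fun g => QuotientGroup.mk' zSub (kC g)) fun g hg => by rw [hpr g hg]; rfl,
      ← Set.image_image (QuotientGroup.mk' zSub) kC, ← MonoidHom.map_closure, closure_kC,
      Subgroup.map_top_of_surjective _ (QuotientGroup.mk'_surjective _)]
  have : Finite G2Four.Q := Nat.finite_of_card_ne_zero (by rw [SuzG2.card_Q]; norm_num)
  have i1 : Function.Injective ((MonoidHom.fst G2Four.Q (cov ⧸ zSub)).subgroupMap S) :=
    ((Nat.bijective_iff_surjective_and_card _).2 ⟨MonoidHom.subgroupMap_surjective _ _, le_antisymm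
      (hle.trans (le_of_eq (by rw [h1, Subgroup.card_top, SuzG2.card_Q])))
      (Nat.card_le_card_of_surjective _ (MonoidHom.subgroupMap_surjective _ _))⟩).1
  let e : S ≃* G2Four.Q := (MulEquiv.ofBijective _ ⟨i1, MonoidHom.subgroupMap_surjective _ _⟩).trans
    ((MulEquiv.subgroupCongr h1).trans Subgroup.topEquiv)
  let ψ : chevG2.group G2Four.K4 →* cov ⧸ zSub :=
    ((MonoidHom.snd G2Four.Q (cov ⧸ zSub)).comp S.subtype).comp
      (G2Four.qEquiv.symm.trans e.symm).toMonoidHom
  have hsurj : Function.Surjective ψ := by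
    intro y
    obtain ⟨x, hx, rfl⟩ : y ∈ S.map (MonoidHom.snd G2Four.Q (cov ⧸ zSub)) := h2 ▸ Subgroup.mem_top y
    refine ⟨G2Four.qEquiv (e ⟨x, hx⟩), ?_⟩
    simp [ψ]
  have := (S1055.result (F := G2Four.K4) ⟨⟨2⟩, by decide, by decide⟩).1
  rcases ψ.normal_ker.eq_bot_or_eq_top with h | h
  · exact ⟨(MulEquiv.ofBijective ψ ⟨(MonoidHom.ker_eq_bot_iff ψ).1 h, hsurj⟩).symm⟩
  · exfalso
    obtain ⟨x, hx⟩ := hsurj (sBar 0)
    have h0 : sBar 0 = 1 := by
      rw [← hx]; exact MonoidHom.mem_ker.1 (h ▸ Subgroup.mem_top x)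
    obtain ⟨k, hk⟩ := (QuotientGroup.eq_one_iff (kC 0)).1 h0
    have hfix : ∀ p : Pt, ((sC 0) p).1 = p.1 := by
      intro p
      rw [show sC 0 = zC ^ k from (congrArg Subtype.val hk).symm]
      have hmem : ∀ n : ℤ, (zC ^ n : Equiv.Perm Pt) ∈ ({ σ | ∀ p : Pt, (σ p).1 = p.1 } : Set (Equiv.Perm Pt)) := by
        intro n
        induction n using Int.induction_on with
        | zero => intro p; rfl
        | succ n ih => intro p; rw [zpow_add_one, Equiv.Perm.mul_apply, ih]; rfl
        | pred n ih =>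
          intro p
          rw [zpow_sub_one, Equiv.Perm.mul_apply, ih]
          obtain ⟨q, rfl⟩ := zC.surjective p
          rw [Equiv.Perm.inv_def, Equiv.symm_apply_apply]; rfl
      exact hmem k p
    have h6 : (0 : ℕ) < 6 := by norm_num
    have hm := moves
    have e0 : pxN 0 0 = 0 := by
      have := hfix (⟨0, by norm_num⟩, 0)
      rw [sC_apply h6] at this
      exact congrArg Fin.val this
    have e1 : pxN 0 1 = 1 := by
      have := hfix (⟨1, by norm_num⟩, 0)
      rw [sC_apply h6] at this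
      exact congrArg Fin.val this
    rw [e0, e1] at hm
    exact absurd hm (by decide)

/-- `G₂(4)` has a stem extension with kernel of order two. -/
theorem exists_cover :
    ∃ (Γ : Type) (_ : Group Γ) (_ : Finite Γ) (σ : Γ →* chevG2.group G2Four.K4),
      Cfsg.IsStemExtension σ ∧ Nat.card σ.ker = 2 := by
  obtain ⟨e⟩ := exists_equiv
  have hker : (e.toMonoidHom.comp (QuotientGroup.mk' zSub)).ker = zSub := by
    rw [MonoidHom.ker_comp_of_injective _ _ e.injective, QuotientGroup.ker_mk']
  obtain ⟨hsimple, hnc⟩ := S1055.result (F := G2Four.K4) ⟨⟨2⟩, by decide, by decide⟩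
  have hperf : commutator (chevG2.group G2Four.K4) = ⊤ := by
    rcases (inferInstance : (commutator (chevG2.group G2Four.K4)).Normal).eq_bot_or_eq_top with h | h
    · refine absurd ⟨⟨fun a b => ?_⟩⟩ hnc
      have : ⁅a, b⁆ ∈ commutator (chevG2.group G2Four.K4) :=
        Subgroup.commutator_mem_commutator (Subgroup.mem_top a) (Subgroup.mem_top b)
      rw [h, Subgroup.mem_bot, commutatorElement_eq_one_iff_mul_comm] at this
      exact this
    · exact h
  have hsurj := e.surjective.comp (QuotientGroup.mk'_surjective zSub)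
  have hdec : kC 3 ∈ (commutator cov ⊔ zSub : Subgroup cov) := by
    have hmap : (commutator cov).map (e.toMonoidHom.comp (QuotientGroup.mk' zSub)) = ⊤ := by
      rw [← hperf, commutator_def, commutator_def, Subgroup.map_commutator,
        Subgroup.map_top_of_surjective _ hsurj]
    have : (e.toMonoidHom.comp (QuotientGroup.mk' zSub)) (kC 3) ∈
        (commutator cov).map (e.toMonoidHom.comp (QuotientGroup.mk' zSub)) := hmap ▸ Subgroup.mem_top _
    obtain ⟨c, hc, he⟩ := this
    have hk : c⁻¹ * kC 3 ∈ zSub := by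
      rw [← hker, MonoidHom.mem_ker, map_mul, map_inv, he, inv_mul_cancel]
    rw [← mul_inv_cancel_left c (kC 3)]
    exact Subgroup.mul_mem_sup hc hk
  refine ⟨cov, inferInstance, inferInstance, e.toMonoidHom.comp (QuotientGroup.mk' zSub), ⟨?_, ?_, ?_⟩, ?_⟩
  · exact e.surjective.comp (QuotientGroup.mk'_surjective _)
  · exact hker.le.trans zSub_le_center
  · rw [hker, zSub, Subgroup.zpowers_le]
    obtain ⟨c, hc, n, hn, hcn⟩ := Subgroup.mem_sup_of_normal_left.1 hdec
    have hn2 : n * n = 1 := by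
      rw [← pow_two]
      refine orderOf_dvd_iff_pow_eq_one.1 ?_
      rw [← card_zSub, ← Subgroup.orderOf_mk n hn]
      exact orderOf_dvd_natCard _
    have hz : (⟨zC, zC_mem⟩ : cov) = kC 3 * kC 3 := Subtype.ext sq_three.symm
    rw [hz, ← hcn, show c * n * (c * n) = c * (n * c) * n by group,
      ← Subgroup.mem_center_iff.1 (zSub_le_center hn) c, show c * (c * n) * n = c * c * (n * n) by group, hn2,
      mul_one]
    exact Subgroup.mul_mem _ hc hc
  · rw [hker, card_zSub]

end Cfsg.Agent.G2FourMult
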