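/-
Boolean checks on the roots of G₂ for the central extensions of G₂(4): what the torus does not kill is written
with the short root elements, whose lifts it controls.
-/
import Cfsg.Agent.Lib.Chev.Steinberg.SmallField

set_option autoImplicit false

namespace Cfsg.Agent.G2FourMult

open Cfsg.Lie Cfsg.Agent.Chev

variable (c : Cert)

/-- An odd integer. -/
noncomputable def oddB (z : ℤ) : Bool := !(Cert.dvdB 2 z)

/-- Commuting roots moved differently by the torus. -/
noncomputable def com0 (r s : ℕ) : Bool := c.evenB r s && c.killB 3 r s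

/-- The commutator of two roots is one root element with an odd coefficient. -/
noncomputable def sglB (r s k : ℕ) : Bool :=
  !(Nat.beq s r) && (!(Nat.beq s (c.ng r)) &&
    match c.comm r s with
    | [(k', C, 1, 1)] => Nat.beq k' k && oddB C
    | _ => false)

/-- A root is the commutator of two roots with the property `P`. -/
noncomputable def decB (P : ℕ → ℕ → Bool) (r : ℕ) : Bool :=
  (List.range c.nroots).any fun d => (c.keys d).any fun d' => sglB c d d' r && P d d'

/-- A root is a commutator of roots commuting with it. -/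
noncomputable def selfB (r : ℕ) : Bool := decB c (fun d d' => com0 c d r && com0 c d' r) r

/-- The first root is a commutator of roots commuting with the second. -/
noncomputable def st1B (r s : ℕ) : Bool :=
  c.evenB r s && decB c (fun d d' => com0 c d s && com0 c d' s) r

/-- The lifts of the two root subgroups commute. -/
noncomputable def comB (a b : ℕ) : Bool := Nat.beq b a || (com0 c a b || st1B c a b)

/-- The commutator of the lifts is exact, with one term at `k`. -/
noncomputable def oneB (a b k : ℕ) : Bool :=
  sglB c a b k && (c.killB 3 a b && (com0 c k a && com0 c k b))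

/-- The commutator of the lifts of the two roots lies at `k`. -/
noncomputable def intoB (a b k : ℕ) : Bool := comB c a b || (oneB c a b k || oneB c b a k)

/-- The commutator of `r` and `s` is computed through a decomposition of `r`. -/
noncomputable def st2B (r s k : ℕ) : Bool :=
  comB c r k && decB c (fun d d' => com0 c d' s && (!(Nat.beq d s) && (!(Nat.beq d (c.ng s)) &&
    (c.comm s d).all fun x => Cert.dvdB 2 x.2.1 || (comB c x.1 r && (comB c x.1 k && intoB c d' x.1 k))))) r

/-- The check of a pair. -/
noncomputable def pairOKB (r s : ℕ) : Bool :=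
  Nat.beq s r || (Nat.beq s (c.ng r) || (c.killB 3 r s || (st1B c r s ||
    (List.range c.nroots).any fun k => sglB c r s k && st2B c r s k)))

/-- The check of all pairs and functionals. -/
noncomputable def chkB : Bool :=
  allLt c.nroots (fun r => c.selB 3 r) && allLt c.nroots fun r => allLt c.nroots fun s => pairOKB c r s

theorem chkB_G2 : chkB Chev.G2.cert = true := by decide +kernel

theorem selfB_G2 : selfB Chev.G2.cert 11 = true := by decide +kernel

theorem reps_G2 : (Chev.G2.cert.reps.all fun ρ => Nat.beq ρ.root 9 || Nat.beq ρ.root 11) = true := by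
  decide +kernel

variable {c} {D : ChevalleyDatum}

theorem oddB_iff {z : ℤ} : oddB z = true ↔ ¬ (2 : ℤ) ∣ z := by
  rw [oddB, Bool.not_eq_true', ← Bool.not_eq_true, dvdB_iff]
  rfl

theorem com0_spec {r s : ℕ} (h : com0 c r s = true) :
    s ≠ r ∧ s ≠ c.ng r ∧ (∀ x ∈ c.comm r s, (2 : ℤ) ∣ x.2.1) ∧ c.killB 3 r s = true := by
  simp only [com0, Cert.evenB, Bool.and_eq_true, Bool.not_eq_true', ← Bool.not_eq_true, Nat.beq_eq,
    List.all_eq_true, dvdB_iff] at h
  exact ⟨h.1.1, h.1.2.1, h.1.2.2, h.2⟩

theorem sglB_spec {r s k : ℕ} (h : sglB c r s k = true) :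
    s ≠ r ∧ s ≠ c.ng r ∧ ∃ C : ℤ, c.comm r s = [(k, C, 1, 1)] ∧ ¬ (2 : ℤ) ∣ C := by
  rw [sglB, Bool.and_eq_true, Bool.and_eq_true] at h
  obtain ⟨h1, h2, h3⟩ := h
  refine ⟨fun e => by simp [e] at h1, fun e => by simp [e] at h2, ?_⟩
  split at h3
  · next k' C heq =>
    rw [Bool.and_eq_true, Nat.beq_eq, oddB_iff] at h3
    obtain ⟨rfl, hC⟩ := h3
    exact ⟨C, heq, hC⟩
  · exact absurd h3 (by simp)

theorem decB_spec (hV : Valid D c) {P : ℕ → ℕ → Bool} {r : ℕ} (h : decB c P r = true) :
    ∃ d d', d < D.nroots ∧ d' < D.nroots ∧ sglB c d d' r = true ∧ P d d' = true := by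
  simp only [decB, List.any_eq_true, List.mem_range, hV.nroots_eq, Bool.and_eq_true] at h
  obtain ⟨d, hd, d', hk, h1, h2⟩ := h
  exact ⟨d, d', hd, (hV.keys_spec hd).2.1 d' hk, h1, h2⟩

end Cfsg.Agent.G2FourMult
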