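/-
Central extensions of the group of (R1), (R2) of type G₂ over four elements: modulo the commutator of the lifts of
one short root subgroup, which is central of order at most two, they split.
-/
import Cfsg.Agent.Lib.G2FourMult.UpperChecks

set_option autoImplicit false

namespace Cfsg.Agent.G2FourMult

open Cfsg.Lie Cfsg.Agent.Chev
open scoped commutatorElement

section generic

variable {E : Type*} [Group E] {K : Type*} [Field K]

theorem cm_conj (g a b : E) : g * cm a b * g⁻¹ = cm (g * a * g⁻¹) (g * b * g⁻¹) := by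
  simp only [cm]; group

theorem cm_inv (a b : E) : (cm a b)⁻¹ = cm b a := by
  simp only [cm]; group

/-- A commutator relation of additive lifts which the torus moves. -/
theorem rel_of_kill {fa fb fk : K → E} (hb : ∀ t u, fb t * fb u = fb (t + u))
    (ha : ∀ t u, fa t * fa u = fa (t + u)) (hk : ∀ t u, fk t * fk u = fk (t + u))
    (hka : ∀ t u, Commute (fk t) (fa u)) (hkb : ∀ t u, Commute (fk t) (fb u))
    (hcen : ∀ t u, cm (fb u) (fa t) * (fk (t * u))⁻¹ ∈ Subgroup.center E)
    {g : E} {l m : K} (hga : ∀ t, g * fa t * g⁻¹ = fa (l * t)) (hgb : ∀ u, g * fb u * g⁻¹ = fb (m * u))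
    (hgk : ∀ v, g * fk v * g⁻¹ = fk (l * m * v)) (hlm : (l = 1 ∧ m ≠ 1) ∨ (m = 1 ∧ l ≠ 1)) (t u : K) :
    cm (fb u) (fa t) = fk (t * u) := by
  set f : K → K → E := fun t u => cm (fb u) (fa t) * (fk (t * u))⁻¹ with hf
  have hfe : ∀ t u, cm (fb u) (fa t) = f t u * fk (t * u) := fun t u => by
    rw [hf, inv_mul_cancel_right]
  have hzc : ∀ {z : E}, z ∈ Subgroup.center E → ∀ x : E, Commute z x := fun hz x =>
    (Subgroup.mem_center_iff.1 hz x).symm
  have hfix : ∀ t u (x : E), Commute (fk (t * u)) x → x⁻¹ * cm (fb u) (fa t) * x = cm (fb u) (fa t) := by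
    intro t u x hx
    have h : Commute (cm (fb u) (fa t)) x := by
      rw [hfe]
      exact Commute.mul_left (hzc (hcen t u) x) hx
    rw [mul_assoc, h.eq, inv_mul_cancel_left]
  have addu : ∀ t u u', f t (u + u') = f t u * f t u' := by
    intro t u u'
    show cm _ _ * (fk _)⁻¹ = _
    rw [← hb, cm_mul_left, hfix t u _ (hkb _ _), hfe t u, hfe t u', mul_add, ← hk, mul_inv_rev]
    calc f t u * fk (t * u) * (f t u' * fk (t * u')) * ((fk (t * u'))⁻¹ * (fk (t * u))⁻¹)
        = f t u * (fk (t * u) * f t u') * (fk (t * u))⁻¹ := by group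
      _ = f t u * (f t u' * fk (t * u)) * (fk (t * u))⁻¹ := by rw [(hzc (hcen t u') _).eq]
      _ = _ := by group
  have addt : ∀ t t' u, f (t + t') u = f t u * f t' u := by
    intro t t' u
    have e : cm (fb u) (fa t * fa t') = cm (fb u) (fa t') * ((fa t')⁻¹ * cm (fb u) (fa t) * fa t') := by
      simp only [cm]; group
    show cm _ _ * (fk _)⁻¹ = _
    rw [← ha, e, hfix t u _ (hka _ _), hfe t' u, hfe t u, add_comm t t', add_mul, ← hk,
      mul_inv_rev, show ∀ a b c d : E, a * b * (c * d) * (d⁻¹ * b⁻¹) = a * (b * c * b⁻¹) from fun a b c d => by group,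
      ← (hzc (hcen t u) (fk (t' * u))).eq, mul_inv_cancel_right, (hzc (hcen t' u) _).eq]
  have hinv : ∀ t u, f (l * t) (m * u) = f t u := by
    intro t u
    have h : g * f t u * g⁻¹ = f t u := by
      rw [← (hzc (hcen t u) g).eq, mul_inv_cancel_right]
    rw [← h]
    show cm _ _ * (fk _)⁻¹ = g * (cm _ _ * (fk _)⁻¹) * g⁻¹
    rw [show g * (cm (fb u) (fa t) * (fk (t * u))⁻¹) * g⁻¹ =
      g * cm (fb u) (fa t) * g⁻¹ * (g * fk (t * u) * g⁻¹)⁻¹ by group, cm_conj, hga, hgb, hgk]
    congr 3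
    ring
  have h1 : f t u = 1 := by
    rcases hlm with ⟨rfl, hm⟩ | ⟨rfl, hl⟩
    · have hm0 : m - 1 ≠ 0 := sub_ne_zero.2 hm
      have h := addu t (u / (m - 1)) u
      have h2 := hinv t (u / (m - 1))
      rw [one_mul] at h2
      rw [show u / (m - 1) + u = m * (u / (m - 1)) by field_simp; ring, h2, left_eq_mul] at h
      exact h
    · have hl0 : l - 1 ≠ 0 := sub_ne_zero.2 hl
      have h := addt (t / (l - 1)) t u
      have h2 := hinv (t / (l - 1)) u
      rw [one_mul] at h2
      rw [show t / (l - 1) + t = l * (t / (l - 1)) by field_simp; ring, h2, left_eq_mul] at h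
      exact h
  rw [hfe, h1, one_mul]

end generic

variable {K : Type*} [Field K] [Fintype K]

/-- Facts on four elements. -/
theorem four_facts (hq : Fintype.card K = 4) :
    (2 : K) = 0 ∧ ∃ w : K, w ≠ 0 ∧ (∀ z : ℤ, w ^ z = 1 ↔ ((3 : ℕ) : ℤ) ∣ z) ∧
      ∀ t : K, t = 0 ∨ t = 1 ∨ t = w ∨ t = 1 + w := by
  classical
  have h2 : (2 : K) = 0 := by
    have h4 := Nat.cast_card_eq_zero K
    rw [hq, Nat.cast_ofNat] at h4
    have : (2 : K) * 2 = 0 := by linear_combination h4
    exact (mul_self_eq_zero.1 this)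
  obtain ⟨w, -, hw⟩ := Finset.exists_mem_notMem_of_card_lt_card
    (show ({0, 1} : Finset K).card < (Finset.univ : Finset K).card by
      rw [Finset.card_univ, hq]; exact Finset.card_le_two.trans_lt (by omega))
  simp only [Finset.mem_insert, Finset.mem_singleton, not_or] at hw
  have hw3 : w ^ 3 = 1 := by
    have := FiniteField.pow_card_sub_one_eq_one w hw.1
    rwa [hq] at this
  refine ⟨h2, w, hw.1, ?_, ?_⟩
  · intro z
    obtain ⟨k, hk⟩ : ∃ k : ℤ, z = 3 * k + z % 3 := ⟨z / 3, by omega⟩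
    have e : w ^ z = w ^ (z % 3) := by
      conv_lhs => rw [hk]
      rw [zpow_add₀ hw.1, zpow_mul, show w ^ (3 : ℤ) = w ^ 3 from zpow_natCast w 3, hw3, one_zpow, one_mul]
    rcases (by omega : z % 3 = 0 ∨ z % 3 = 1 ∨ z % 3 = 2) with h | h | h <;> rw [e, h]
    · exact iff_of_true (zpow_zero _) (by omega)
    · exact iff_of_false (by rw [zpow_one]; exact hw.2) (by omega)
    · refine iff_of_false (fun h' => hw.2 ?_) (by omega)
      have h'' : w ^ 2 = 1 := by rwa [zpow_two, ← pow_two] at h'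
      calc w = w ^ 3 := by rw [pow_succ, h'', one_mul]
        _ = 1 := hw3
  · intro t
    have hcard : ({0, 1, w, 1 + w} : Finset K).card = 4 := by
      rw [Finset.card_insert_of_notMem, Finset.card_insert_of_notMem, Finset.card_pair]
      · intro h
        exact one_ne_zero (α := K) (by linear_combination -h)
      · simp only [Finset.mem_insert, Finset.mem_singleton, not_or]
        exact ⟨Ne.symm hw.2, fun h => hw.1 (by linear_combination -h)⟩
      · simp only [Finset.mem_insert, Finset.mem_singleton, not_or]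
        refine ⟨zero_ne_one, Ne.symm hw.1, fun h => hw.2 ?_⟩
        linear_combination -h - h2
    have : t ∈ ({0, 1, w, 1 + w} : Finset K) := by
      rw [Finset.eq_univ_of_card ({0, 1, w, 1 + w} : Finset K) (by rw [hcard, hq])]
      exact Finset.mem_univ t
    simpa using this

variable {E : Type*} [Group E] {tabs simps : List ℕ}

set_option maxHeartbeats 1600000 in
/-- The extension splits when the lifts of one short root subgroup commute. -/
theorem exists_section_of_short {D : ChevalleyDatum} {c : Cert} (hV : Valid D c) (hchk : chkB c = true)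
    {ρ₀ ρ₁ : ℕ} (hreps : (c.reps.all fun ρ => Nat.beq ρ.root ρ₀ || Nat.beq ρ.root ρ₁) = true)
    (hlong : selfB c ρ₁ = true) (hf : BNSetup.Facts D tabs simps) (hst : StData D)
    (hS : TorusSplitData D) (hq : Fintype.card K = 4)
    (hperf : commutator (D.SteinbergCover K) = ⊤)
    (p : E →* D.SteinbergCover K) (hp : Function.Surjective p) (hc : p.ker ≤ Subgroup.center E)
    (h9 : ∀ (t u : K) (a b : E), p a = D.scGen K ρ₀ t → p b = D.scGen K ρ₀ u → Commute a b) :
    ∃ τ : D.SteinbergCover K →* E, ∀ g, p (τ g) = g := by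
  classical
  have hD : Good D := ⟨c, hV⟩
  simp only [chkB, Bool.and_eq_true, allLt_iff] at hchk
  rw [hV.nroots_eq] at hchk
  obtain ⟨hsel', hpairs⟩ := hchk
  obtain ⟨h2, w, hw0, hv, -⟩ := four_facts hq
  obtain ⟨θ, -, hθ⟩ := hD.exists_cover_hom (F := K)
  set S : StModel D K (D.SteinbergCover K) := coverModel ((D.group K).subtype.comp θ) hθ with hSdef
  set y : D.SteinbergCover K → E := Function.surjInv hp with hydef
  have hy : ∀ g, p (y g) = g := Function.surjInv_eq hp
  have hneg : ∀ x : K, -x = x := fun x => by linear_combination (-x) * h2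
  have hodd : ∀ C : ℤ, ¬ (2 : ℤ) ∣ C → (C : K) = 1 := fun C hC => by
    obtain ⟨k, rfl⟩ : ∃ k, C = 2 * k + 1 := ⟨C / 2, by omega⟩
    push_cast
    rw [h2, zero_mul, zero_add]
  have heven : ∀ C : ℤ, (2 : ℤ) ∣ C → (C : K) = 0 := fun C hC => by
    obtain ⟨k, rfl⟩ := hC
    push_cast
    rw [h2, zero_mul]
  have hkill : ∀ {r s : ℕ}, r < D.nroots → s < D.nroots → c.killB 3 r s = true → ∃ (e : ℕ → ℤ) (v : K), v ≠ 0 ∧
      ((v ^ wt D e r = 1 ∧ v ^ wt D e s ≠ 1) ∨ (v ^ wt D e s = 1 ∧ v ^ wt D e r ≠ 1)) := fun hr hs h =>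
    (hV.exists_kill hr hs h hv).elim fun e he => ⟨e, w, hw0, he⟩
  have hscom : ∀ {r s : ℕ}, r < D.nroots → s < D.nroots → c.evenB r s = true → ∀ t u : K,
      Commute (S.x r t) (S.x s u) := by
    intro r s hr hs he t u
    simp only [Cert.evenB, Bool.and_eq_true, Bool.not_eq_true', ← Bool.not_eq_true, Nat.beq_eq, List.all_eq_true,
      dvdB_iff] at he
    obtain ⟨e1, e2, e3⟩ := he
    rw [← hV.ng_eq hr] at e2
    refine Commute.symm ?_
    rw [← cm_eq_one, cm, S.comm r hr s hs e1 e2, ChevalleyDatum.commWord, List.map_map, hV.comm_eq hr hs]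
    refine List.prod_eq_one fun g hg => ?_
    obtain ⟨x, hx, rfl⟩ := List.mem_map.1 hg
    simp only [Function.comp_apply, heven _ (e3 x hx), zero_mul, S.x_zero (hV.comm_lt hr hs hx)]
  have hsgl : ∀ {a b k : ℕ}, a < D.nroots → b < D.nroots → sglB c a b k = true → k < D.nroots ∧
      ∀ t u : K, cm (S.x b u) (S.x a t) = S.x k (t * u) := by
    intro a b k ha hb h
    obtain ⟨e1, e2, C, hC, hodd'⟩ := sglB_spec h
    rw [← hV.ng_eq ha] at e2
    refine ⟨hV.comm_lt ha hb (x := (k, C, 1, 1)) (by rw [hC]; simp), fun t u => ?_⟩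
    rw [cm, S.comm a ha b hb e1 e2, ChevalleyDatum.commWord, hV.comm_eq ha hb, hC]
    simp [hodd C hodd', hneg]
  -- lifts commute at stage 0
  have hc0 : ∀ {r s : ℕ}, r < D.nroots → s < D.nroots → com0 c r s = true → ∀ (t u : K) {a b : E},
      p a = S.x r t → p b = S.x s u → Commute a b := by
    intro r s hr hs h t u a b ha hb
    obtain ⟨-, -, -, hkl⟩ := com0_spec h
    simp only [com0, Bool.and_eq_true] at h
    refine Commute.symm ?_
    rw [← cm_eq_one, cm_congr hc (a' := y (S.x s u)) (b' := y (S.x r t)) (hb.trans (hy _).symm)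
      (ha.trans (hy _).symm), cm_eq_one]
    exact commute_of_kill hD hf hst p hc y hy hr hs (hscom hr hs h.1) (hkill hr hs hkl) t u
  -- a root element as a commutator
  have hdec : ∀ {d d' r : ℕ}, d < D.nroots → d' < D.nroots → sglB c d d' r = true → ∀ (t : K) {a g : E},
      p a = S.x r t → (∀ (v : K) {b : E}, p b = S.x d v → Commute b g) →
      (∀ (v : K) {b : E}, p b = S.x d' v → Commute b g) → Commute a g := by
    intro d d' r hd hd' h t a g ha h1 h1'
    obtain ⟨-, hx⟩ := hsgl hd hd' h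
    have hm : ∀ {q : ℕ} (v : K), (∀ (v : K) {b : E}, p b = S.x q v → Commute b g) →
        S.x q v ∈ (Subgroup.centralizer {g}).map p := by
      intro q v hq'
      refine ⟨y (S.x q v), Subgroup.mem_centralizer_iff.2 ?_, hy _⟩
      rintro _ rfl
      exact (hq' v (hy _)).eq.symm
    refine (commute_lift_of_mem hc (m := S.x r t) ?_ ha).symm
    rw [← one_mul t, ← hx 1 t]
    exact Subgroup.mul_mem _ (Subgroup.mul_mem _ (Subgroup.mul_mem _ (Subgroup.inv_mem _ (hm _ h1'))
      (Subgroup.inv_mem _ (hm _ h1))) (hm _ h1')) (hm _ h1)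
  -- the root subgroups lift to abelian groups
  have hself : ∀ r, r < D.nroots → ∀ t u : K, Commute (y (S.x r t)) (y (S.x r u)) := by
    intro r hr
    refine (hV.covers_sound (P := fun r => r < D.nroots ∧ ∀ t u : K, Commute (y (S.x r t)) (y (S.x r u)))
      hV.trees'.2.1 ?_ ?_ hr).2
    · intro k hk
      obtain ⟨ρ, hρ, rfl⟩ := List.mem_map.1 hk
      obtain ⟨hr0, -, -⟩ := hV.trees'.2.2 ρ hρ
      refine ⟨hr0, fun t u => ?_⟩
      have hρ' := List.all_eq_true.1 hreps ρ hρ
      rw [Bool.or_eq_true, Nat.beq_eq, Nat.beq_eq] at hρ'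
      rcases hρ' with h | h
      · rw [h]
        exact h9 t u _ _ (hy _) (hy _)
      · obtain ⟨d, d', hd, hd', hs1, hs2⟩ := decB_spec hV hlong
        rw [Bool.and_eq_true] at hs2
        rw [h] at hr0 ⊢
        exact hdec hd hd' hs1 t (hy _) (fun v b hb => hc0 hd hr0 hs2.1 v u hb (hy _))
          (fun v b hb => hc0 hd' hr0 hs2.2 v u hb (hy _))
    · intro i hi k hk
      rw [Nat.blt_eq, hV.rank_eq] at hi
      refine ⟨hV.w_lt hi hk.1, fun t u => ?_⟩
      set g : E := y (S.n (D.simple i) 1)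
      have key : ∀ t : K, p (g * y (S.x k ((c.η i k : K) * t)) * g⁻¹) = S.x (c.w i k) t := by
        intro t
        rw [map_mul, map_mul, map_inv, hy, hy, hV.n_conj_sign S hf hst hi hk.1, ← mul_assoc,
          hV.eta_cast_sq hi hk.1, one_mul]
      rw [← cm_eq_one, cm_congr hc (a' := g * y (S.x k ((c.η i k : K) * t)) * g⁻¹)
        (b' := g * y (S.x k ((c.η i k : K) * u)) * g⁻¹) (by rw [hy, key]) (by rw [hy, key]), cm_eq_one]
      exact (hk.2 _ _).map (MulAut.conj g)
  obtain ⟨φ, hφ, hφadd, hφeq⟩ := exists_lifts hD hf hst p hc hθ y hy hperf hp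
    (fun r hr => (hV.exists_sel hr (hsel' r hr) hv).elim fun e he => ⟨e, w, hw0, he⟩) hself
  have hφ' : ∀ {r}, r < D.nroots → ∀ t, p (φ r t) = S.x r t := fun hr t => hφ _ hr t
  have hφ0 : ∀ {r}, r < D.nroots → φ r 0 = 1 := fun hr => by
    have := hφadd _ hr 0 0
    rwa [add_zero, mul_eq_left] at this
  have hcen : ∀ {a b : E}, p a = p b → a * b⁻¹ ∈ Subgroup.center E := fun h => hc (by
    rw [MonoidHom.mem_ker, map_mul, map_inv, h, mul_inv_cancel])
  -- lifts commute at stage 1
  have hcom : ∀ {r s : ℕ}, r < D.nroots → s < D.nroots → comB c r s = true → ∀ t u : K,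
      Commute (φ r t) (φ s u) := by
    intro r s hr hs h t u
    simp only [comB, Bool.or_eq_true, Nat.beq_eq] at h
    rcases h with rfl | h | h
    · show φ s t * φ s u = φ s u * φ s t
      rw [hφadd s hs, hφadd s hs, add_comm]
    · exact hc0 hr hs h t u (hφ' hr t) (hφ' hs u)
    · rw [st1B, Bool.and_eq_true] at h
      obtain ⟨d, d', hd, hd', hs1, hs2⟩ := decB_spec hV h.2
      rw [Bool.and_eq_true] at hs2
      exact hdec hd hd' hs1 t (hφ' hr t) (fun v b hb => hc0 hd hs hs2.1 v u hb (hφ' hs u))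
        (fun v b hb => hc0 hd' hs hs2.2 v u hb (hφ' hs u))
  -- exact relations with one term
  have hone : ∀ {a b k : ℕ}, a < D.nroots → b < D.nroots → oneB c a b k = true → ∀ t u : K,
      cm (φ b u) (φ a t) = φ k (t * u) := by
    intro a b k ha hb h t u
    simp only [oneB, Bool.and_eq_true] at h
    obtain ⟨h1, h2', h3, h4⟩ := h
    obtain ⟨hk, hx⟩ := hsgl ha hb h1
    obtain ⟨e, v, hv0, he⟩ := hkill ha hb h2'
    obtain ⟨-, -, C, hC, -⟩ := sglB_spec h1
    have hwk : wt D e k = wt D e a + wt D e b := by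
      obtain ⟨hw', -, -⟩ := hD.wt_commTerms e ha hb (x := (k, C, 1, 1)) (by rw [hV.comm_eq ha hb, hC]; simp)
      simpa using hw'
    refine rel_of_kill (hφadd b hb) (hφadd a ha) (hφadd k hk)
      (fun t u => hc0 hk ha h3 t u (hφ' hk t) (hφ' ha u)) (fun t u => hc0 hk hb h4 t u (hφ' hk t) (hφ' hb u))
      (fun t u => hcen (by rw [map_cm, hφ' hb, hφ' ha, hx, hφ' hk]))
      (fun t => hφeq e v hv0 a ha t) (fun u => hφeq e v hv0 b hb u) (fun x => ?_) he t u
    rw [hφeq e v hv0 k hk x, hwk, zpow_add₀ hv0]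
  refine exists_section_of_lifts hD hf hst p hc hθ y hy φ hφ hφadd hφeq
    (fun r hr s hs h1 h2 => let ⟨b, _, hb1, hb2, _⟩ := hS.pair r hr s hs h1 h2; ⟨b, hb1, hb2⟩)
    fun r hr s hs e1 e2 => ?_
  have hp' := hpairs r hr s hs
  simp only [pairOKB, Bool.or_eq_true, Nat.beq_eq, Bool.and_eq_true, List.any_eq_true, List.mem_range,
    hV.nroots_eq] at hp'
  rcases hp' with h | h | h | h | ⟨k, hk, hsg, hst2⟩
  · exact absurd h e1
  · exact absurd (h.trans (hV.ng_eq hr).symm) e2
  · exact Or.inr (hkill hr hs h)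
  · -- commuting long roots
    refine Or.inl fun t u => ?_
    have hcm : comB c r s = true := by simp [comB, h]
    rw [cm_eq_one.2 (hcom hr hs hcm t u).symm]
    symm
    rw [ChevalleyDatum.commWord, List.map_map, hV.comm_eq hr hs]
    refine List.prod_eq_one fun g hg => ?_
    obtain ⟨x, hx, rfl⟩ := List.mem_map.1 hg
    rw [st1B, Cert.evenB] at h
    simp only [Bool.and_eq_true, List.all_eq_true, dvdB_iff] at h
    simp only [Function.comp_apply, heven _ (h.1.2.2 x hx), zero_mul, hφ0 (hV.comm_lt hr hs hx)]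
  -- long roots with a long sum
  refine Or.inl fun t u => ?_
  simp only [st2B, Bool.and_eq_true] at hst2
  obtain ⟨hrk, hdec2⟩ := hst2
  obtain ⟨d, d', hd, hd', hs1, hs2⟩ := decB_spec hV hdec2
  simp only [Bool.and_eq_true, Bool.not_eq_true', ← Bool.not_eq_true, Nat.beq_eq, List.all_eq_true,
    Bool.or_eq_true, dvdB_iff] at hs2
  obtain ⟨hds, hne1, hne2, hall⟩ := hs2
  rw [← hV.ng_eq hs] at hne2
  obtain ⟨-, hx⟩ := hsgl hd hd' hs1
  obtain ⟨-, hxk⟩ := hsgl hr hs hsg
  set g := φ s u with hgdef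
  set A := φ d' t with hAdef
  set B := φ d 1 with hBdef
  set r₀ := cm A B with hr₀def
  have hr₀ : p r₀ = p (φ r t) := by
    rw [hr₀def, map_cm, hφ' hd', hφ' hd, hx, hφ' hr, one_mul]
  have hr₀k : ∀ v, Commute r₀ (φ k v) := by
    intro v
    rw [← cm_eq_one, cm_congr hc hr₀ rfl, cm_eq_one]
    exact hcom hr hk hrk t v
  have hAg : Commute A g := hc0 hd' hs hds t u (hφ' hd' t) (hφ' hs u)
  let R : Subgroup E := (MonoidHom.mk' (fun v : Multiplicative K => φ k v.toAdd)
    (fun a b => by rw [hφadd k hk]; rfl)).range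
  have hRmem : ∀ v, φ k v ∈ R := fun v => ⟨Multiplicative.ofAdd v, rfl⟩
  have hRcomm : ∀ {ρ x : E}, ρ ∈ R → (∀ v, Commute x (φ k v)) → Commute x ρ := by
    rintro ρ x ⟨v, rfl⟩ hx'
    exact hx' _
  let T : E → Prop := fun h => Commute r₀ h ∧ (∀ v, Commute h (φ k v)) ∧ cm A h ∈ R
  have hTone : T 1 := ⟨Commute.one_right _, fun v => Commute.one_left _, by simp [cm]⟩
  have hTmul : ∀ a b, T a → T b → T (a * b) := by
    rintro a b ⟨a1, a2, a3⟩ ⟨b1, b2, b3⟩
    refine ⟨a1.mul_right b1, fun v => (a2 v).mul_left (b2 v), ?_⟩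
    rw [cm_mul_right, mul_assoc b⁻¹, ← (hRcomm a3 b2).eq, inv_mul_cancel_left]
    exact Subgroup.mul_mem _ b3 a3
  set W := ((D.commWord K s d u 1).map fun q => φ q.1 q.2).prod with hWdef
  have hWT : T W := by
    rw [hWdef]
    refine List.prod_induction T hTmul hTone fun q hq => ?_
    simp only [ChevalleyDatum.commWord, List.map_map, List.mem_map, Function.comp_def,
      hV.comm_eq hs hd] at hq
    obtain ⟨x, hx', rfl⟩ := hq
    have hz := hV.comm_lt hs hd hx'
    rcases hall x hx' with he | ⟨hzr, hzk, hinto⟩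
    · simp only [heven _ he, zero_mul, hφ0 hz]
      exact hTone
    generalize (x.2.1 : K) * (-u) ^ x.2.2.1 * 1 ^ x.2.2.2 = v
    refine ⟨?_, fun v' => hcom hz hk hzk v v', ?_⟩
    · rw [← cm_eq_one, cm_congr hc hr₀ rfl, cm_eq_one]
      exact (hcom hz hr hzr v t).symm
    · simp only [intoB, Bool.or_eq_true] at hinto
      rcases hinto with h | h | h
      · rw [cm_eq_one.2 (hcom hd' hz h t v)]
        exact Subgroup.one_mem _
      · rw [← cm_inv, hone hd' hz h]
        exact Subgroup.inv_mem _ (hRmem _)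
      · rw [hone hz hd' h]
        exact hRmem _
  have hBg : p (cm B g) = p W := by
    rw [map_cm, hφ' hd, hφ' hs, cm, S.comm s hs d hd hne1 hne2, hWdef, map_list_prod, List.map_map]
    refine congrArg List.prod (List.map_congr_left fun q hq => (hφ' ?_ _).symm)
    obtain ⟨x, hx', rfl⟩ := List.mem_map.1 hq
    exact hD.commTerms_lt hs hd hx'
  have hconj : g⁻¹ * r₀ * g = cm A W * r₀ := by
    have hA' : g⁻¹ * A * g = A := by rw [mul_assoc, hAg.eq, inv_mul_cancel_left]
    have hB' : g⁻¹ * B * g = B * cm B g := by simp only [cm]; group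
    calc g⁻¹ * r₀ * g = cm (g⁻¹ * A * g) (g⁻¹ * B * g) := by simp only [hr₀def, cm]; group
      _ = cm A (B * W) := by
        rw [hA', hB']
        exact cm_congr hc rfl (by rw [map_mul, map_mul, hBg])
      _ = _ := by
        rw [cm_mul_right, mul_assoc W⁻¹, ← hr₀def, hWT.1.eq, inv_mul_cancel_left]
  have hmem : cm (φ s u) (φ r t) ∈ R := by
    rw [cm_congr hc (a' := g) (b' := r₀) rfl hr₀.symm, ← cm_inv]
    refine Subgroup.inv_mem _ ?_
    rw [show cm r₀ g = r₀⁻¹ * (g⁻¹ * r₀ * g) by simp only [cm]; group, hconj,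
      ← (hRcomm hWT.2.2 hr₀k).eq, inv_mul_cancel_left]
    exact hWT.2.2
  obtain ⟨v, hv'⟩ := hmem
  obtain ⟨e1', e2', C, hC, hCodd⟩ := sglB_spec hsg
  have hv'' : φ k v.toAdd = cm (φ s u) (φ r t) := hv'
  have hval : v.toAdd = t * u := by
    have h := congrArg p hv''
    rw [map_cm, hφ' hk, hφ' hs, hφ' hr, hxk] at h
    have h' := congrArg S.θ h
    rw [S.map_x k hk, S.map_x k hk] at h'
    exact hD.xg_injective hf hk h'
  rw [← hv'', hval, ChevalleyDatum.commWord, hV.comm_eq hr hs, hC]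
  simp [hodd C hCodd, hneg]

set_option maxHeartbeats 1600000 in
/-- The extension splits modulo a central subgroup of order at most two. -/
theorem exists_section_mod (hf : BNSetup.Facts chevG2 tabs simps) (hst : StData chevG2)
    (hS : TorusSplitData chevG2) (hq : Fintype.card K = 4)
    (hperf : commutator (chevG2.SteinbergCover K) = ⊤)
    (p : E →* chevG2.SteinbergCover K) (hp : Function.Surjective p) (hc : p.ker ≤ Subgroup.center E) :
    ∃ (e₀ : E) (N : Subgroup E) (_ : N.Normal) (τ : chevG2.SteinbergCover K →* E ⧸ N),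
      N = Subgroup.zpowers e₀ ∧ e₀ ∈ p.ker ∧ e₀ * e₀ = 1 ∧
        ∀ (g : chevG2.SteinbergCover K) (a : E), τ g = QuotientGroup.mk a → p a = g := by
  classical
  have hD : Good chevG2 := Chev.G2.good
  obtain ⟨h2, w, -, -, hK⟩ := four_facts hq
  obtain ⟨θ, -, hθ⟩ := hD.exists_cover_hom (F := K)
  set S : StModel chevG2 K (chevG2.SteinbergCover K) := coverModel ((chevG2.group K).subtype.comp θ) hθ
    with hSdef
  set y : chevG2.SteinbergCover K → E := Function.surjInv hp with hydef
  have hy : ∀ g, p (y g) = g := Function.surjInv_eq hp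
  have h9lt : 9 < chevG2.nroots := by
    have h := Chev.G2.valid.nroots_eq
    show 9 < chevG2.nroots
    rw [← h]
    decide
  set f : K → K → E := fun t u => cm (y (S.x 9 t)) (y (S.x 9 u)) with hfdef
  have hfk : ∀ t u, f t u ∈ p.ker := fun t u => by
    rw [MonoidHom.mem_ker, map_cm, hy, hy, cm_eq_one]
    exact (S.add 9 h9lt t u).trans ((congrArg (S.x 9) (add_comm t u)).trans (S.add 9 h9lt u t).symm)
  have hadd1 : ∀ t t' u, f (t + t') u = f t u * f t' u := fun t t' u => by
    show cm _ _ = _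
    rw [cm_congr hc (a' := y (S.x 9 t) * y (S.x 9 t')) (b' := y (S.x 9 u))
      (by rw [map_mul, hy, hy, hy, S.add 9 h9lt]) rfl, cm_mul_left_of_central (hc (hfk t u))]
  have hadd2 : ∀ t u u', f t (u + u') = f t u * f t u' := fun t u u' => by
    show cm _ _ = _
    rw [cm_congr hc (a' := y (S.x 9 t)) (b' := y (S.x 9 u) * y (S.x 9 u')) rfl
      (by rw [map_mul, hy, hy, hy, S.add 9 h9lt]), cm_mul_right_of_central (hc (hfk t u))]
  have h11 : (1 : K) + 1 = 0 := by linear_combination h2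
  set e₀ := f 1 w with he₀
  have hf0l : ∀ u, f 0 u = 1 := fun u => by
    have h := hadd1 0 0 u
    rwa [add_zero, left_eq_mul] at h
  have he2 : e₀ * e₀ = 1 := by rw [he₀, ← hadd1, h11, hf0l]
  have hN : (Subgroup.zpowers e₀).Normal := by
    refine ⟨fun n hn g => ?_⟩
    have hn' : n ∈ Subgroup.center E := hc ((Subgroup.zpowers_le.2 (hfk 1 w)) hn)
    rwa [Subgroup.mem_center_iff.1 hn' g, mul_inv_cancel_right]
  set N := Subgroup.zpowers e₀ with hNdef
  have hNk : N ≤ p.ker := Subgroup.zpowers_le.2 (hfk 1 w)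
  set p' : E ⧸ N →* chevG2.SteinbergCover K := QuotientGroup.lift N p hNk with hp'def
  have hp' : Function.Surjective p' := fun g => ⟨QuotientGroup.mk (y g), hy g⟩
  have hc' : p'.ker ≤ Subgroup.center (E ⧸ N) := by
    intro x hx
    obtain ⟨a, rfl⟩ := QuotientGroup.mk_surjective x
    have ha : a ∈ Subgroup.center E := hc hx
    refine Subgroup.mem_center_iff.2 fun z => ?_
    obtain ⟨b, rfl⟩ := QuotientGroup.mk_surjective z
    rw [← QuotientGroup.mk_mul, ← QuotientGroup.mk_mul, Subgroup.mem_center_iff.1 ha b]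
  have hfN : ∀ t u, f t u ∈ N := by
    have hgen : ∀ u, f 1 u ∈ N → f w u ∈ N → ∀ t, f t u ∈ N := by
      intro u h1 hw' t
      rcases hK t with rfl | rfl | rfl | rfl
      · rw [hf0l]; exact Subgroup.one_mem _
      · exact h1
      · exact hw'
      · rw [hadd1]; exact Subgroup.mul_mem _ h1 hw'
    have hself : ∀ a, f a a = 1 := fun a => cm_eq_one.2 rfl
    have hswap : f w 1 ∈ N := by
      have h : f w 1 = e₀⁻¹ := (cm_inv _ _).symm
      rw [h]
      exact Subgroup.inv_mem _ (Subgroup.mem_zpowers _)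
    have hw1 : ∀ t, f t 1 ∈ N := hgen 1 (by rw [hself]; exact Subgroup.one_mem _) hswap
    have hww : ∀ t, f t w ∈ N := hgen w (Subgroup.mem_zpowers _) (by rw [hself]; exact Subgroup.one_mem _)
    intro t u
    rcases hK u with rfl | rfl | rfl | rfl
    · have h := hadd2 t 0 0
      rw [add_zero, left_eq_mul] at h
      rw [h]; exact Subgroup.one_mem _
    · exact hw1 t
    · exact hww t
    · rw [hadd2]; exact Subgroup.mul_mem _ (hw1 t) (hww t)
  obtain ⟨τ, hτ⟩ := exists_section_of_short Chev.G2.valid chkB_G2 reps_G2 selfB_G2 hf hst hS hq hperf p' hp' hc' (by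
    intro t u a b ha hb
    have ha' : p' a = p' (QuotientGroup.mk (y (S.x 9 t))) := ha.trans (hy _).symm
    have hb' : p' b = p' (QuotientGroup.mk (y (S.x 9 u))) := hb.trans (hy _).symm
    rw [← cm_eq_one, cm_congr hc' ha' hb']
    refine (map_cm (QuotientGroup.mk' N) _ _).symm.trans ?_
    exact (QuotientGroup.eq_one_iff _).2 (hfN t u))
  refine ⟨e₀, N, hN, τ, hNdef, hfk 1 w, he2, fun g a h => ?_⟩
  have h' := hτ g
  rw [h] at h'
  exact h'

end Cfsg.Agent.G2FourMult
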