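/-
The Schur multiplier of G₂(4) is cyclic of order two.
-/
import Cfsg.Agent.Lib.G2FourMult.Upper
import Cfsg.Agent.Lib.G2FourMult.Cover
import Cfsg.Agent.Lib.Chev.Steinberg.TorusMultiplier
import Cfsg.Agent.Lib.G2Four.Transport
import Cfsg.Agent.S2395

set_option autoImplicit false

namespace Cfsg.Agent.G2FourMult

open Cfsg.Lie Cfsg.Agent.Chev
open scoped commutatorElement

universe u

variable {K : Type u} [Field K] [Fintype K]

/-- The group of (R1), (R2) of type G₂ is perfect and isomorphic to the Chevalley group. -/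
theorem exists_cover_equiv (hq : Fintype.card K = 4) :
    commutator (chevG2.SteinbergCover K) = ⊤ ∧
      Nonempty (chevG2.SteinbergCover K ≃* ↥(chevG2.group K)) := by
  classical
  have hD7 : chevG2 ∈ [chevG2, chevB2, chevD4, chevF4, chevE6, chevE7, chevE8] := by simp
  obtain ⟨tabs, simps, hf⟩ := BNSetup.exists_facts hD7
  have hst := stData_of_mem chevG2 hD7
  have hD := Chev.G2.good
  have hperf : commutator (chevG2.SteinbergCover K) = ⊤ :=
    S2395.result _ hD7 fun _ => by
      obtain ⟨-, w, hw0, hw, -⟩ := four_facts hq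
      refine ⟨w, hw0, fun h => ?_⟩
      have h3 := (hw 1).1 (by rw [zpow_one, h])
      omega
  obtain ⟨θ, hs, hθ⟩ := hD.exists_cover_hom (F := K)
  let S := coverModel ((chevG2.group K).subtype.comp θ) hθ
  have hgen := closure_scGen chevG2 K
  have hm := S.mulRel_of_finite hD hf hst (S.ker_le_center hD hf hst hgen)
  have hbot : (BNSetup.torusHom K chevG2).ker = ⊥ :=
    Subgroup.eq_bot_of_card_eq _
      (by rw [BNSetup.card_ker_torusHom hD _ BNSetup.kerCertG2_valid, pow_zero])
  have hk : S.θ.ker = ⊥ := by rw [S.ker_eq_map hD hf hst hm hgen, hbot, Subgroup.map_bot]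
  have e : θ.ker = S.θ.ker := by
    show θ.ker = ((chevG2.group K).subtype.comp θ).ker
    rw [MonoidHom.ker_comp_of_injective _ _ (Subgroup.subtype_injective _)]
  exact ⟨hperf, ⟨MulEquiv.ofBijective θ ⟨(MonoidHom.ker_eq_bot_iff θ).1 (e.trans hk), hs⟩⟩⟩

/-- The kernel of a stem extension of G₂(4) has order at most two. -/
theorem exists_surjective_of_stem (hq : Fintype.card K = 4) {Γ : Type u} [Group Γ]
    (π : Γ →* ↥(chevG2.group K)) (hπ : Cfsg.IsStemExtension π) :
    ∃ f : Multiplicative (ZMod 2) →* ↥π.ker, Function.Surjective f := by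
  classical
  have hD7 : chevG2 ∈ [chevG2, chevB2, chevD4, chevF4, chevE6, chevE7, chevE8] := by simp
  obtain ⟨tabs, simps, hf⟩ := BNSetup.exists_facts hD7
  obtain ⟨hperf, ⟨e⟩⟩ := exists_cover_equiv hq
  obtain ⟨hs, hc, hder⟩ := hπ
  let p : Γ →* chevG2.SteinbergCover K := e.symm.toMonoidHom.comp π
  have hker : p.ker = π.ker := MonoidHom.ker_comp_of_injective _ _ e.symm.injective
  have hp : Function.Surjective p := e.symm.surjective.comp hs
  obtain ⟨e₀, N, hN, τ, hNe, he₀, he2, hτ⟩ := exists_section_mod hf (stData_of_mem chevG2 hD7)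
    (torusSplitData_of_mem hD7) hq hperf p hp (hker.le.trans hc)
  have hmk : ∀ g, ∃ a, τ g = QuotientGroup.mk a := fun g => (QuotientGroup.mk_surjective _).imp fun _ h => h.symm
  have hsub : _root_.commutator Γ ≤ τ.range.comap (QuotientGroup.mk' N) := by
    rw [commutator_def, Subgroup.commutator_le]
    intro a _ b _
    obtain ⟨a', ha'⟩ := hmk (p a)
    obtain ⟨b', hb'⟩ := hmk (p b)
    refine ⟨⁅p a, p b⁆, ?_⟩
    rw [map_commutatorElement, ha', hb',
      Schur.commutator_congr (hker.le.trans hc) (hτ _ _ ha').symm (hτ _ _ hb').symm]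
    exact (map_commutatorElement (QuotientGroup.mk' N) a' b').symm
  refine Schur.exists_surjective_zmod_of_le_zpowers π.ker 2 (c := e₀) (fun k hk => ?_) (by rw [pow_two]; exact he2)
  obtain ⟨g, hg⟩ := hsub (hder hk)
  have hpk : p k = g := hτ g k hg
  rw [← hker, MonoidHom.mem_ker] at hk
  rw [hk] at hpk
  rw [← hpk, map_one] at hg
  rw [← hNe]
  exact (QuotientGroup.eq_one_iff k).1 hg.symm

/-- The multiplier of G₂(4). -/
theorem multiplier_two (hq : Fintype.card K = 4) :
    Cfsg.HasCyclicSchurMultiplier ↥(chevG2.group K) 2 := by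
  refine ⟨?_, fun Γ _ _ π hπ => exists_surjective_of_stem hq π hπ⟩
  obtain ⟨Γ, hg, hfin, σ, ⟨hs, hc, hd⟩, hcard⟩ := exists_cover
  let eF : ↥(chevG2.group G2Four.K4) ≃* ↥(chevG2.group K) :=
    G2Four.groupEquiv (FiniteField.ringEquivOfCardEq (G2Four.card_K4.trans hq.symm))
  let d : ULift.{u} Γ ≃* Γ := MulEquiv.ulift
  refine ⟨ULift.{u} Γ, inferInstance, inferInstance, eF.toMonoidHom.comp (σ.comp d.toMonoidHom), ?_⟩
  have hker : (eF.toMonoidHom.comp (σ.comp d.toMonoidHom)).ker = σ.ker.map d.symm.toMonoidHom := by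
    rw [MonoidHom.ker_comp_of_injective _ _ eF.injective]
    ext x
    refine ⟨fun hx => ⟨d x, hx, d.symm_apply_apply x⟩, ?_⟩
    rintro ⟨z, hz, rfl⟩
    show σ (d (d.symm z)) = 1
    rw [d.apply_symm_apply]
    exact hz
  refine ⟨⟨eF.surjective.comp (hs.comp d.surjective), ?_, ?_⟩, ?_⟩
  · rintro x hx
    rw [hker] at hx
    obtain ⟨z, hz, rfl⟩ := hx
    refine Subgroup.mem_center_iff.2 fun y => d.injective ?_
    rw [map_mul, map_mul, MulEquiv.coe_toMonoidHom, MulEquiv.apply_symm_apply]
    exact Subgroup.mem_center_iff.1 (hc hz) _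
  · rw [hker]
    refine (Subgroup.map_mono hd).trans ?_
    rw [commutator_def, commutator_def, Subgroup.map_commutator]
    exact Subgroup.commutator_mono le_top le_top
  · rw [hker]
    have hc2 : Nat.card (σ.ker.map d.symm.toMonoidHom) = 2 := by
      rw [Subgroup.card_map_of_injective d.symm.injective, hcard]
    have : Fact (Nat.Prime 2) := ⟨Nat.prime_two⟩
    exact ⟨mulEquivOfPrimeCardEq hc2 (by simp)⟩

end Cfsg.Agent.G2FourMult
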